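import Mathlib
import Cfsg.Agent.H752.Mp
import Cfsg.Agent.Lib.ElemAbGL
import Cfsg.Agent.Prune
set_option linter.all false
prune_inst 0x7f00000000000000000000000000000000000000000000000000000000000000000000000000000000000000000000000000000000000000000000000000000000000000000000000000000000000000003fffffffffffffffffffffffffffbeffbdffffffff
open scoped Cfsg.Agent.FastGrp

/-!
# The order of the automizer of an elementary abelian subgroup in the fusion system of a group (helper769)

* `mem_iff` : `α ∈ Aut(E)` lies in the automizer iff it is induced by an element of the group;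
* `card_mul_dvd` : `|E| |Aut_G(E)|` divides `|G|` (`E` abelian);
* `card_aut16` : `|Aut(2⁴)| = 20160`;
* `card_dvd` : both together;
* `eight_dvd` : `|T : E|` divides `|Aut_G(E)|` if `E` is normal and self-centralizing in `T`;
* `fortyfive_dvd` : 45 divides it if it is transitive and an element of order three fixes a point.
-/

set_option autoImplicit false

namespace Cfsg.Agent.H769.SF.AutCard

open Cfsg Cfsg.FusionSystem

variable {G : Type*} [Group G] {T E : Subgroup G}

theorem mem_iff (hET : E ≤ T) {α : MulAut E} :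
    α ∈ (groupFusionSystem T).autGroup E ↔ ∃ g : G, ∀ x : E, (α x : G) = g * x * g⁻¹ := by
  rw [H759.mem_autGroup _ hET]
  constructor
  · rintro ⟨-, -, g, hg⟩
    exact ⟨g, hg⟩
  · rintro ⟨g, hg⟩
    exact ⟨hET, fun x => hET (α x).2, g, hg⟩

theorem norm_of {α : MulAut E} {g : G} (hg : ∀ x : E, (α x : G) = g * x * g⁻¹) :
    g ∈ Subgroup.normalizer (E : Set G) := by
  rw [Subgroup.mem_normalizer_iff]
  intro h
  constructor
  · intro hh
    have := hg ⟨h, hh⟩
    show g * h * g⁻¹ ∈ E
    rw [← show ((α ⟨h, hh⟩ : E) : G) = g * h * g⁻¹ from this]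
    exact (α ⟨h, hh⟩).2
  · intro hh
    have h1 := hg (α.symm ⟨g * h * g⁻¹, hh⟩)
    rw [MulEquiv.apply_symm_apply] at h1
    have h2 : h = ((α.symm ⟨g * h * g⁻¹, hh⟩ : E) : G) := by
      have h3 : g * h * g⁻¹ = g * ((α.symm ⟨g * h * g⁻¹, hh⟩ : E) : G) * g⁻¹ := h1
      exact mul_left_cancel (mul_right_cancel h3)
    rw [h2]
    exact (α.symm ⟨g * h * g⁻¹, hh⟩).2

theorem autGroup_eq_range (hET : E ≤ T) :
    (groupFusionSystem T).autGroup E = E.normalizerMonoidHom.range := by
  ext α
  rw [mem_iff hET]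
  constructor
  · rintro ⟨g, hg⟩
    refine ⟨⟨g, norm_of hg⟩, ?_⟩
    ext x
    exact (hg x).symm
  · rintro ⟨g, rfl⟩
    exact ⟨g, fun x => rfl⟩

theorem card_mul_dvd [Finite G] (hET : E ≤ T) (hc : ∀ a ∈ E, ∀ b ∈ E, a * b = b * a) :
    Nat.card E * Nat.card ((groupFusionSystem T).autGroup E) ∣ Nat.card G := by
  rw [autGroup_eq_range hET]
  have h1 : Nat.card E ∣ Nat.card E.normalizerMonoidHom.ker := by
    have hle : E.subgroupOf (Subgroup.normalizer (E : Set G)) ≤ E.normalizerMonoidHom.ker := by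
      rw [Subgroup.normalizerMonoidHom_ker]
      intro x hx
      rw [Subgroup.mem_subgroupOf] at hx ⊢
      rw [Subgroup.mem_centralizer_iff]
      intro y hy
      exact hc y hy _ hx
    have h2 := Subgroup.card_dvd_of_le hle
    rwa [Nat.card_congr (Subgroup.subgroupOfEquivOfLe Subgroup.le_normalizer).toEquiv] at h2
  have h3 : Nat.card E.normalizerMonoidHom.ker * Nat.card E.normalizerMonoidHom.range =
      Nat.card (Subgroup.normalizer (E : Set G)) := by
    rw [← Subgroup.index_ker, Subgroup.card_mul_index]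
  exact (Nat.mul_dvd_mul_right h1 _).trans (h3.dvd.trans (Subgroup.card_subgroup_dvd_card _))

theorem card_aut16 {V : Type*} [CommGroup V] (hp : ∀ x : V, x ^ 2 = 1) (hc : Nat.card V = 16) :
    Nat.card (MulAut V) = 20160 := by
  have : Fact (Nat.Prime 2) := ⟨Nat.prime_two⟩
  obtain ⟨e⟩ := Cfsg.Agent.Lib.ElemAbGL.mulAut_equiv_GL 2 4 hp (by rw [hc]; norm_num)
  rw [Nat.card_congr e.toEquiv, Matrix.card_GL_field]
  simp [Fin.prod_univ_succ]

theorem card_aut_dvd (hE2 : ∀ a ∈ E, a * a = 1) (hc : Nat.card E = 16) (A : Subgroup (MulAut E)) :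
    Nat.card A ∣ 20160 := by
  have hcm : ∀ a b : E, a * b = b * a := by
    intro a b
    have h1 := hE2 _ (a * b).2
    apply Subtype.ext
    have ha : (a : G)⁻¹ = a := inv_eq_of_mul_eq_one_left (hE2 _ a.2)
    have hb : (b : G)⁻¹ = b := inv_eq_of_mul_eq_one_left (hE2 _ b.2)
    have hab : ((a * b : E) : G)⁻¹ = (a * b : E) := inv_eq_of_mul_eq_one_left h1
    rw [← hab]
    show ((a : G) * b)⁻¹ = (b : G) * a
    rw [mul_inv_rev, ha, hb]
  letI : CommGroup E := { (inferInstance : Group E) with mul_comm := hcm }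
  rw [← card_aut16 (V := E) (fun x => by rw [pow_two]; exact Subtype.ext (hE2 _ x.2)) hc]
  exact Subgroup.card_subgroup_dvd_card A

/-- the index `|T : E|` divides the order of the automizer -/
theorem index_dvd [Finite G] {n : ℕ} (hET : E ≤ T) (hn : ∀ t ∈ T, ∀ x ∈ E, t * x * t⁻¹ ∈ E)
    (hcen : ∀ t ∈ T, (∀ x ∈ E, t * x = x * t) → t ∈ E) (hcomm : ∀ a ∈ E, ∀ b ∈ E, a * b = b * a)
    (hcard : Nat.card T = Nat.card E * n) :
    n ∣ Nat.card ((groupFusionSystem T).autGroup E) := by
  have hTN : T ≤ Subgroup.normalizer (E : Set G) := by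
    intro t ht
    rw [Subgroup.mem_normalizer_iff]
    intro h
    refine ⟨fun hh => hn t ht h hh, fun hh => ?_⟩
    have := hn t⁻¹ (inv_mem ht) _ hh
    simpa [mul_assoc] using this
  let ρ : T →* MulAut E := E.normalizerMonoidHom.comp (Subgroup.inclusion hTN)
  have hker : ρ.ker = E.subgroupOf T := by
    ext t
    rw [MonoidHom.mem_ker, Subgroup.mem_subgroupOf]
    constructor
    · intro h
      apply hcen _ t.2
      intro x hx
      have h1 : ((ρ t ⟨x, hx⟩ : E) : G) = x := by rw [h]; rfl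
      have h2 : (t : G) * x * (t : G)⁻¹ = x := h1
      rw [mul_inv_eq_iff_eq_mul] at h2
      exact h2
    · intro h
      ext x
      show (t : G) * x * (t : G)⁻¹ = x
      rw [hcomm _ h _ x.2, mul_inv_cancel_right]
  have h1 : Nat.card ρ.ker = Nat.card E := by
    rw [hker, Nat.card_congr (Subgroup.subgroupOfEquivOfLe hET).toEquiv]
  have h2 : Nat.card ρ.ker * Nat.card ρ.range = Nat.card T := by
    rw [← Subgroup.index_ker, Subgroup.card_mul_index]
  rw [h1, hcard] at h2
  have h3 : Nat.card ρ.range = n := Nat.eq_of_mul_eq_mul_left Nat.card_pos h2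
  rw [← h3, autGroup_eq_range hET]
  exact Subgroup.card_dvd_of_le (by
    rintro _ ⟨t, rfl⟩
    exact ⟨_, rfl⟩)

/-- transitive with an element of order three fixing a point -/
theorem fortyfive_dvd [Finite G] (hc : Nat.card E = 16) (A : Subgroup (MulAut E)) {z : E} (hz : z ≠ 1)
    (htr : ∀ x : E, x ≠ 1 → ∃ α ∈ A, α x = z) {β : MulAut E} (hβ : β ∈ A) (hβz : β z = z) (hβ3 : orderOf β = 3) :
    45 ∣ Nat.card A := by
  classical
  have hfin : Finite (MulAut E) := inferInstance
  have : Fintype A := Fintype.ofFinite A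
  have : Fintype (MulAction.orbit A z) := Fintype.ofFinite _
  have : Fintype (MulAction.stabilizer A z) := Fintype.ofFinite _
  have h1 := MulAction.card_orbit_mul_card_stabilizer_eq_card_group A z
  have ho : MulAction.orbit A z = {x : E | x ≠ 1} := by
    ext x
    constructor
    · rintro ⟨α, rfl⟩ h
      apply hz
      have h' : (α : MulAut E) z = 1 := h
      rwa [EmbeddingLike.map_eq_one_iff] at h'
    · intro hx
      obtain ⟨α, hα, h⟩ := htr x hx
      refine ⟨⟨α, hα⟩⁻¹, ?_⟩
      show α⁻¹ z = x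
      rw [← h, MulAut.inv_apply_self]
  have h15 : Fintype.card (MulAction.orbit A z) = 15 := by
    rw [← Nat.card_eq_fintype_card, ho]
    have h2 : Nat.card ({x : E | x ≠ 1} : Set E) = (({1} : Set E)ᶜ).ncard := rfl
    rw [h2, Set.ncard_compl, Set.ncard_singleton, hc]
  have h3 : 3 ∣ Fintype.card (MulAction.stabilizer A z) := by
    have h4 : orderOf (⟨⟨β, hβ⟩, hβz⟩ : MulAction.stabilizer A z) = 3 := by
      rw [← Subgroup.orderOf_coe, ← Subgroup.orderOf_coe]
      exact hβ3
    rw [← h4]
    exact orderOf_dvd_card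
  rw [Nat.card_eq_fintype_card, ← h1, h15]
  obtain ⟨k, hk⟩ := h3
  rw [hk]
  exact ⟨k, by ring⟩

end Cfsg.Agent.H769.SF.AutCard
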